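import Cfsg.Agent.Lib.CharDegree.ItoMichler
import Cfsg.Agent.Lib.CharDegree.Twist
import Cfsg.Agent.Lib.Char.Gallagher
import Cfsg.Agent.Lib.Char.PResidualDegree
import Cfsg.Agent.Lib.Char.CliffordCorr
import Cfsg.Prelude.Def_DegreeGraph
import Mathlib.GroupTheory.Nilpotent
import Mathlib.GroupTheory.FiniteAbelian.Duality
import Mathlib.Analysis.Complex.Polynomial.Basic

/-!
# A maximal nonabelian quotient of a solvable group and the degrees

A minimal nonabelian solvable quotient is a `p`-group, whose degrees multiply with the degrees prime to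
`p`, or a Frobenius group, whose index multiplies with the degrees prime to the kernel.
-/

set_option autoImplicit false

namespace CfsgLib.DegreeGraph

open Subgroup CfsgLib.Char CfsgLib.CharDegree

section Top

variable {Q : Type*} [Group Q] [Finite Q] (M : Subgroup Q) [hM : M.Normal]

/-- With trivial center and a minimal normal abelian subgroup containing all commutators, the conjugation
action of the rest is without fixed points. -/
theorem fpf_of_center_eq_bot (hab : ∀ a ∈ M, ∀ b ∈ M, a * b = b * a)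
    (hcomm : ∀ x y : Q, x * y * x⁻¹ * y⁻¹ ∈ M) (hZ : center Q = ⊥)
    (hmin : ∀ F : Subgroup Q, F.Normal → F ≤ M → F = ⊥ ∨ F = M) :
    ∀ x : Q, x ∉ M → ∀ a ∈ M, x * a = a * x → a = 1 := by
  have hgen : ∀ x : Q, (∃ a ∈ M, x * a ≠ a * x) → ∀ a ∈ M, x * a = a * x → a = 1 := by
    rintro x ⟨a₀, ha₀, hne⟩
    set F : Subgroup Q := M ⊓ centralizer ({x} : Set Q) with hF
    have hFn : F.Normal := ⟨fun a ha g => by
      refine ⟨hM.conj_mem _ ha.1 g, mem_centralizer_singleton_iff.2 ?_⟩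
      have h1 : a * x = x * a := mem_centralizer_singleton_iff.1 ha.2
      have h2 := hcomm g⁻¹ x
      have h3 := hab a ha.1 _ h2
      calc g * a * g⁻¹ * x = g * (a * (g⁻¹ * x * g⁻¹⁻¹ * x⁻¹) * x) * g⁻¹ := by group
        _ = g * ((g⁻¹ * x * g⁻¹⁻¹ * x⁻¹) * a * x) * g⁻¹ := by rw [h3]
        _ = g * ((g⁻¹ * x * g⁻¹⁻¹ * x⁻¹) * (x * a)) * g⁻¹ := by rw [mul_assoc _ a x, h1]
        _ = x * (g * a * g⁻¹) := by group⟩
    rcases hmin F hFn inf_le_left with h | h
    · intro a ha hxa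
      have : a ∈ F := ⟨ha, mem_centralizer_singleton_iff.2 hxa.symm⟩
      rwa [h, mem_bot] at this
    · exact absurd (mem_centralizer_singleton_iff.1 (h.symm ▸ ha₀ : a₀ ∈ F).2).symm hne
  intro z hz
  refine hgen z ?_
  by_contra hc
  push Not at hc
  refine hz ?_
  by_cases hex : ∃ x : Q, ∃ a ∈ M, x * a ≠ a * x
  swap
  · push Not at hex
    by_cases hM1 : M = ⊥
    · have : ∀ g : Q, z * g = g * z := fun g => by
        have := hcomm z g
        rw [hM1, mem_bot, mul_inv_eq_one, mul_inv_eq_iff_eq_mul] at this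
        exact this
      have hz1 : z ∈ center Q := mem_center_iff.2 fun g => (this g).symm
      rw [hZ, mem_bot] at hz1
      rw [hz1]; exact M.one_mem
    · exfalso
      refine hM1 (eq_bot_iff.2 fun a ha => ?_)
      rw [← hZ, mem_center_iff]
      exact fun g => hex g a ha
  obtain ⟨x, hx⟩ := hex
  have hfp := hgen x hx
  let f : M → M := fun a => ⟨x * a * x⁻¹ * (a : Q)⁻¹, hcomm x a⟩
  have hinj : Function.Injective f := by
    intro a b h
    have h' : x * a * x⁻¹ * (a : Q)⁻¹ = x * b * x⁻¹ * (b : Q)⁻¹ := congrArg Subtype.val h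
    have h1 : (a : Q)⁻¹ * b ∈ M := M.mul_mem (M.inv_mem a.2) b.2
    have h2 : x * ((a : Q)⁻¹ * b) = ((a : Q)⁻¹ * b) * x := by
      have h3 := hab _ (M.inv_mem a.2) _ b.2
      have h4 : x * b * x⁻¹ = (x * a * x⁻¹ * (a : Q)⁻¹) * b := by rw [h']; group
      calc x * ((a : Q)⁻¹ * b) = (x * (a : Q)⁻¹ * x⁻¹) * (x * b * x⁻¹) * x := by group
        _ = (x * (a : Q)⁻¹ * x⁻¹) * ((x * a * x⁻¹ * (a : Q)⁻¹) * b) * x := by rw [h4]
        _ = _ := by group
    exact Subtype.ext (inv_mul_eq_one.1 (hfp _ h1 h2))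
  obtain ⟨m, hm⟩ := (Finite.injective_iff_surjective.1 hinj) ⟨x * z * x⁻¹ * z⁻¹, hcomm x z⟩
  have hm' : x * m * x⁻¹ * (m : Q)⁻¹ = x * z * x⁻¹ * z⁻¹ := congrArg Subtype.val hm
  set c := (m : Q)⁻¹ * z with hc'
  have hxc : x * c * x⁻¹ = c := by
    have h1 : x * z * x⁻¹ = x * m * x⁻¹ * (m : Q)⁻¹ * z := by rw [hm']; group
    calc x * c * x⁻¹ = (x * (m : Q)⁻¹ * x⁻¹) * (x * z * x⁻¹) := by rw [hc']; group
      _ = (x * (m : Q)⁻¹ * x⁻¹) * (x * m * x⁻¹ * (m : Q)⁻¹ * z) := by rw [h1]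
      _ = c := by rw [hc']; group
  have hcM : ∀ a ∈ M, c * a = a * c := fun a ha => by
    rw [hc', mul_assoc, hc a ha, ← mul_assoc, hab _ (M.inv_mem m.2) a ha, mul_assoc]
  have hcZ : c ∈ center Q := mem_center_iff.2 fun g => by
    have hw := hcomm g c
    suffices g * c * g⁻¹ * c⁻¹ = 1 by exact mul_inv_eq_iff_eq_mul.1 (mul_inv_eq_one.1 this)
    refine hfp _ hw ?_
    set n := x * g * x⁻¹ * g⁻¹ with hn
    have hnM : n ∈ M := hcomm x g
    have e : x * (g * c * g⁻¹ * c⁻¹) * x⁻¹ = n * (g * c * g⁻¹) * n⁻¹ * c⁻¹ := by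
      rw [show x * (g * c * g⁻¹ * c⁻¹) * x⁻¹ =
        (x * g * x⁻¹) * (x * c * x⁻¹) * (x * g * x⁻¹)⁻¹ * (x * c * x⁻¹)⁻¹ by group, hxc, hn]
      group
    have e2 : n * (g * c * g⁻¹) * n⁻¹ * c⁻¹ = g * c * g⁻¹ * c⁻¹ := by
      rw [show g * c * g⁻¹ = (g * c * g⁻¹ * c⁻¹) * c by group, ← mul_assoc, hab _ hnM _ hw,
        mul_assoc _ n c, ← hcM n hnM, ← mul_assoc, mul_inv_cancel_right, mul_inv_cancel_right]
    exact mul_inv_eq_iff_eq_mul.1 (e.trans e2)
  rw [hZ, mem_bot, hc', inv_mul_eq_one] at hcZ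
  exact hcZ ▸ m.2

/-- A minimal normal abelian subgroup has exponent a prime. -/
theorem exists_exponent (hab : ∀ a ∈ M, ∀ b ∈ M, a * b = b * a) (hne : M ≠ ⊥)
    (hmin : ∀ F : Subgroup Q, F.Normal → F ≤ M → F = ⊥ ∨ F = M) :
    ∃ q : ℕ, q.Prime ∧ ∀ a ∈ M, a ^ q = 1 := by
  set q := (Nat.card M).minFac with hq
  have hqp : q.Prime := Nat.minFac_prime fun h => hne (card_eq_one.1 h)
  haveI := Fact.mk hqp
  obtain ⟨a, ha⟩ := exists_prime_orderOf_dvd_card' q (Nat.minFac_dvd (Nat.card M))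
  let F : Subgroup Q :=
    { carrier := {a | a ∈ M ∧ a ^ q = 1}
      one_mem' := ⟨M.one_mem, one_pow q⟩
      mul_mem' := fun {a b} ha hb => ⟨M.mul_mem ha.1 hb.1, by
        rw [(show Commute a b from hab a ha.1 b hb.1).mul_pow, ha.2, hb.2, one_mul]⟩
      inv_mem' := fun {a} ha => ⟨M.inv_mem ha.1, by rw [inv_pow, ha.2, inv_one]⟩ }
  have hFn : F.Normal := ⟨fun b hb g => ⟨hM.conj_mem b hb.1 g, by rw [conj_pow, hb.2]; simp⟩⟩
  rcases hmin F hFn (fun b hb => hb.1) with h | h
  · have : (a : Q) ∈ F := ⟨a.2, by rw [← SubgroupClass.coe_pow, ← ha, pow_orderOf_eq_one]; rfl⟩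
    rw [h, mem_bot, ← OneMemClass.coe_one M, Subtype.coe_inj] at this
    rw [this, orderOf_one] at ha
    exact absurd ha.symm hqp.ne_one
  · exact ⟨q, hqp, fun b hb => (h.symm ▸ hb : b ∈ F).2⟩

end Top

variable {G : Type*} [Group G] [Finite G]

/-- Twisting by the characters of an elementary section on which the top acts without fixed points. -/
theorem exists_induced_degree {K M : Subgroup G} [hK : K.Normal] [hM : M.Normal] (hKM : K ≤ M)
    {q : ℕ} [Fact q.Prime] (hq : ∀ a ∈ M, a ^ q ∈ K) (hne : ¬ M ≤ K)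
    (hab : ∀ a ∈ M, ∀ b ∈ M, a * b * a⁻¹ * b⁻¹ ∈ K)
    (hfp : ∀ x, x ∉ M → ∀ a ∈ M, x * a * x⁻¹ * a⁻¹ ∈ K → a ∈ K)
    (ψ : Cfsg.IrrCharacter M) (hψ : ¬ q ∣ Cfsg.charDegree (ψ : M → ℂ)) :
    ∃ χ : Cfsg.IrrCharacter G,
      Cfsg.charDegree (χ : G → ℂ) = M.index * Cfsg.charDegree (ψ : M → ℂ) := by
  classical
  haveI := Fintype.ofFinite G
  haveI := Fintype.ofFinite M
  set Kp : Subgroup M := K.subgroupOf M with hKp
  haveI : Kp.Normal := hK.comap _
  haveI := Fintype.ofFinite Kp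
  letI : CommGroup (M ⧸ Kp) := { (inferInstance : Group (M ⧸ Kp)) with
    mul_comm := fun a b => QuotientGroup.induction_on a fun x => QuotientGroup.induction_on b fun y => by
      rw [← QuotientGroup.mk_mul, ← QuotientGroup.mk_mul, QuotientGroup.eq, mem_subgroupOf]
      have h := hab _ (M.inv_mem y.2) _ (M.inv_mem x.2)
      simpa [mul_assoc] using h }
  obtain ⟨k, hk⟩ : ∃ k, Kp.index = q ^ k := by
    rw [index_eq_card]
    refine IsPGroup.iff_card.1 fun a => QuotientGroup.induction_on a fun x => ⟨1, ?_⟩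
    rw [pow_one, ← QuotientGroup.mk_pow, QuotientGroup.eq_one_iff, mem_subgroupOf, SubgroupClass.coe_pow]
    exact hq x x.2
  have hres : Cfsg.IsIrrCharacter Kp fun n : Kp => (ψ : M → ℂ) n :=
    CharExt.isIrr_restrict_of_coprime ψ (by
      rw [hk]; exact (((Fact.out : q.Prime).coprime_iff_not_dvd.2 hψ).symm).pow_right k)
  let Lam := {l : M →* ℂˣ // ∀ c ∈ Kp, l c = 1}
  have htw : ∀ l l' : Lam, twist ψ l.1 = twist ψ l'.1 → l = l' := by
    intro l l' h
    have hl : ∀ l : Lam, ∀ g, (l.1 g : ℂ) = (QuotientGroup.lift Kp l.1 (fun c hc => MonoidHom.mem_ker.2 (l.2 c hc)) (QuotientGroup.mk' Kp g) : ℂˣ) :=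
      fun l g => rfl
    let β : Lam → Cfsg.IrrCharacter (M ⧸ Kp) := fun l =>
      ⟨_, isIrrCharacter_linear (QuotientGroup.lift Kp l.1 (fun c hc => MonoidHom.mem_ker.2 (l.2 c hc)))⟩
    have h1 : β l = β l' := Gallagher.twistBy_injective (IsIrr.isCharacter ψ.2) hres (funext fun g => by
      have := congrFun (congrArg Subtype.val h) g
      simp only [twist_apply] at this
      show (l.1 g : ℂ) * (ψ : M → ℂ) g = (l'.1 g : ℂ) * (ψ : M → ℂ) g
      rw [mul_comm, this, mul_comm])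
    refine Subtype.ext (MonoidHom.ext fun g => Units.ext ?_)
    exact congrFun (congrArg Subtype.val h1) (QuotientGroup.mk' Kp g)
  haveI : Finite (M →* ℂˣ) := by
    haveI := Fintype.ofFinite M
    exact Finite.of_injective (fun f : M →* ℂˣ => fun g : M =>
      (⟨f g, (mem_rootsOfUnity _ _).2 (by rw [← map_pow, pow_card_eq_one', map_one])⟩ :
        rootsOfUnity (Nat.card M) ℂ)) fun f f' h => MonoidHom.ext fun g =>
      congrArg Subtype.val (congrFun h g)
  -- at least as many twists as cosets of `K` in `M`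
  have hcard : Kp.index ≤ Nat.card Lam := by
    rw [index_eq_card, ← CommGroup.card_monoidHom_of_hasEnoughRootsOfUnity (M ⧸ Kp) ℂ]
    refine Nat.card_le_card_of_injective (fun f => ⟨f.comp (QuotientGroup.mk' Kp), fun c hc => by
      rw [MonoidHom.comp_apply, QuotientGroup.mk'_apply, (QuotientGroup.eq_one_iff c).2 hc, map_one]⟩)
      fun f f' h => MonoidHom.ext fun a => ?_
    obtain ⟨g, rfl⟩ := QuotientGroup.mk'_surjective Kp a
    exact DFunLike.congr_fun (congrArg Subtype.val h) g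
  have hle : ∀ l : Lam, M ≤ Clifford.inertia hM (twist ψ l.1 : M → ℂ) :=
    fun l => Clifford.le_inertia hM (IsIrr.isClassFunction (twist ψ l.1).2)
  -- an element outside `M` fixes at most one twist
  have huniq : ∀ x, x ∉ M → ∀ l l' : Lam, x ∈ Clifford.inertia hM (twist ψ l.1 : M → ℂ) →
      x ∈ Clifford.inertia hM (twist ψ l'.1 : M → ℂ) → l = l' := by
    intro x hx l l' hl hl'
    let cx : M →* M := (MulAut.conjNormal x : MulAut M).toMonoidHom
    have hcx : ∀ m : M, ((cx m : M) : G) = x * m * x⁻¹ := fun m => MulAut.conjNormal_apply x m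
    have happ : ∀ (l : Lam), x ∈ Clifford.inertia hM (twist ψ l.1 : M → ℂ) →
        ∀ m, (ψ : M → ℂ) (cx m) * (l.1 (cx m) : ℂ) = (ψ : M → ℂ) m * (l.1 m : ℂ) := fun l hl m => by
      have h := congrFun (Clifford.mem_inertia.1 hl) m
      rw [Clifford.conjFn_apply, twist_apply, twist_apply] at h
      rwa [show cx m = ⟨x * m * x⁻¹, hM.conj_mem m m.2 x⟩ from Subtype.ext (hcx m)]
    have hK' : ∀ (l : Lam), ∀ c ∈ Kp, (l.1.comp cx) c = 1 := fun l c hc => l.2 _ (by
      rw [mem_subgroupOf, hcx]; exact hK.conj_mem _ hc x)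
    let a : Lam := ⟨l.1 * l'.1.comp cx, fun c hc => by rw [MonoidHom.mul_apply, l.2 c hc, hK' l' c hc, one_mul]⟩
    let b : Lam := ⟨l'.1 * l.1.comp cx, fun c hc => by rw [MonoidHom.mul_apply, l'.2 c hc, hK' l c hc, one_mul]⟩
    have hab' : a = b := htw a b (irr_ext fun m => by
      simp only [twist_apply, a, b, MonoidHom.mul_apply, MonoidHom.comp_apply, Units.val_mul]
      linear_combination -(l'.1 (cx m) : ℂ) * happ l hl m + (l.1 (cx m) : ℂ) * happ l' hl' m)
    have hν : ∀ m : M, l.1 (m * (cx m)⁻¹) = l'.1 (m * (cx m)⁻¹) := fun m => by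
      have h := DFunLike.congr_fun (congrArg Subtype.val hab') m
      simp only [a, b, MonoidHom.mul_apply, MonoidHom.comp_apply] at h
      rw [map_mul, map_mul, map_inv, map_inv, mul_inv_eq_iff_eq_mul, mul_right_comm, eq_mul_inv_iff_mul_eq]
      exact h
    refine Subtype.ext (MonoidHom.ext fun m => ?_)
    let d : M → M := fun y => y * (cx y)⁻¹
    let dq : M ⧸ Kp →* M ⧸ Kp :=
      (MonoidHom.id _) / QuotientGroup.map Kp Kp cx (fun c hc => by
        rw [mem_comap, mem_subgroupOf, hcx]; exact hK.conj_mem _ hc x)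
    have hdq : ∀ y : M, dq (QuotientGroup.mk y) = QuotientGroup.mk (d y) := fun y => by
      simp [dq, d, div_eq_mul_inv]
    have hinj : Function.Injective dq := by
      rw [injective_iff_map_eq_one]
      intro z
      induction z using QuotientGroup.induction_on with
      | H y =>
        intro hy
        rw [hdq, QuotientGroup.eq_one_iff, mem_subgroupOf] at hy
        refine (QuotientGroup.eq_one_iff y).2 (mem_subgroupOf.2 (hfp x hx y y.2 ?_))
        have h1 := hK.conj_mem _ (K.inv_mem hy) (y : G)⁻¹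
        have h2 : (d y : G) = y * (x * (y : G) * x⁻¹)⁻¹ := by simp [d, hcx]
        rw [h2] at h1
        have h3 := hK.conj_mem _ h1 (y : G)
        convert h3 using 1
        group
    obtain ⟨z, hz⟩ := (Finite.injective_iff_surjective.1 hinj) (QuotientGroup.mk m)
    induction z using QuotientGroup.induction_on with
    | H y =>
      rw [hdq, QuotientGroup.eq] at hz
      have e : m = d y * ((d y)⁻¹ * m) := by group
      rw [e, map_mul l.1 (d y), map_mul l'.1 (d y), l.2 _ hz, l'.2 _ hz]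
      exact congrArg (· * 1) (hν y)
  -- so some twist has inertia group `M`
  obtain ⟨l, hl⟩ : ∃ l : Lam, Clifford.inertia hM (twist ψ l.1 : M → ℂ) ≤ M := by
    by_contra! hall
    choose x hx hxM using fun l : Lam => SetLike.not_le_iff_exists.1 (hall l)
    have hinj : Function.Injective fun l : Lam => (⟨QuotientGroup.mk (x l), fun h =>
        hxM l ((QuotientGroup.eq_one_iff (x l)).1 h)⟩ : {c : G ⧸ M // c ≠ 1}) := by
      intro l l' h
      have h' : (x l)⁻¹ * x l' ∈ M := QuotientGroup.eq.1 (congrArg Subtype.val h)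
      refine huniq (x l) (hxM l) l l' (hx l) ?_
      have := mul_mem (hx l') (inv_mem (hle l' h'))
      rwa [mul_inv_rev, inv_inv, ← mul_assoc, mul_inv_cancel, one_mul] at this
    have h1 := Nat.card_le_card_of_injective _ hinj
    -- the cosets of `M` move a point of `M / K` regularly
    obtain ⟨a, ha, haK⟩ := SetLike.not_le_iff_exists.1 hne
    have hfun : ∀ c : G ⧸ M, ∃ g : G, (g : G ⧸ M) = c := fun c => QuotientGroup.mk_surjective c
    choose g hg using hfun
    have h2 : Nat.card (G ⧸ M) ≤ Nat.card {z : M ⧸ Kp // z ≠ 1} := by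
      refine Nat.card_le_card_of_injective (fun c => ⟨QuotientGroup.mk ⟨g c * a * (g c)⁻¹,
        hM.conj_mem a ha _⟩, fun h => ?_⟩) fun c c' h => ?_
      · rw [QuotientGroup.eq_one_iff, mem_subgroupOf] at h
        have := hK.conj_mem _ h (g c)⁻¹
        rw [show (g c)⁻¹ * (g c * a * (g c)⁻¹) * (g c)⁻¹⁻¹ = a by group] at this
        exact haK this
      · have h' : (g c * a * (g c)⁻¹)⁻¹ * (g c' * a * (g c')⁻¹) ∈ K :=
          mem_subgroupOf.1 (QuotientGroup.eq.1 (congrArg Subtype.val h))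
        by_contra hne'
        have hy : (g c)⁻¹ * g c' ∉ M := fun hm => hne' (by
          rw [← hg c, ← hg c']; exact QuotientGroup.eq.2 hm)
        refine haK (hfp _ hy a ha ?_)
        have := hK.conj_mem _ (hK.conj_mem _ h' (g c)⁻¹) a
        convert this using 1
        group
    have e1 : Nat.card {c : G ⧸ M // c ≠ 1} + 1 = Nat.card (G ⧸ M) := by
      have := Fintype.ofFinite (G ⧸ M)
      rw [Nat.card_eq_fintype_card, Nat.card_eq_fintype_card, Fintype.card_subtype_compl,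
        Fintype.card_subtype_eq]
      exact Nat.sub_add_cancel Fintype.card_pos
    have e2 : Nat.card {z : M ⧸ Kp // z ≠ 1} + 1 = Kp.index := by
      have := Fintype.ofFinite (M ⧸ Kp)
      rw [index_eq_card, Nat.card_eq_fintype_card, Nat.card_eq_fintype_card, Fintype.card_subtype_compl,
        Fintype.card_subtype_eq]
      exact Nat.sub_add_cancel Fintype.card_pos
    omega
  set ψ' := twist ψ l.1 with hψ'
  have hind : Cfsg.IsIrrCharacter G (Cfsg.indFun M (ψ' : M → ℂ)) :=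
    Clifford.isIrr_indFun_of_over hM ψ'.2 (fun g => ⟨fun h => (hle l h : _), fun h => hl h⟩) le_rfl ψ'.2 (by
      rw [show Clifford.resTo le_rfl (ψ' : M → ℂ) = (ψ' : M → ℂ) from rfl, classInner_irr_self]
      exact one_ne_zero)
  refine ⟨⟨_, hind⟩, charDegree_eq_of_apply_one ?_⟩
  show Cfsg.indFun M (ψ' : M → ℂ) 1 = _
  rw [indFun_apply_one, Nat.cast_mul, ← cast_irrDegree, hψ', charDegree_twist]

/-- Either a prime `p` multiplies into every degree prime to it, or there are a prime `q` and an index `f`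
with kernel `M` such that `f` multiplies into every degree of `M` prime to `q`. -/
theorem exists_covering [Group.IsSolvable G] (hna : ∃ x y : G, x * y ≠ y * x) :
    ∃ s t : ℕ, ∀ r ∈ Cfsg.degreePrimes G,
      (r = s ∨ (Cfsg.degreeGraph G).Adj r s) ∨ (r = t ∨ (Cfsg.degreeGraph G).Adj r t) := by
  classical
  haveI := Fintype.ofFinite G
  have hadj : ∀ {r s : ℕ}, r.Prime → s.Prime → ∀ χ : Cfsg.IrrCharacter G,
      r ∣ Cfsg.charDegree (χ : G → ℂ) → s ∣ Cfsg.charDegree (χ : G → ℂ) →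
      r = s ∨ (Cfsg.degreeGraph G).Adj r s := fun {r s} hr hs χ hrd hsd => by
    by_cases hrs : r = s
    · exact Or.inl hrs
    · exact Or.inr ⟨hrs, hr, hs, _, ⟨χ, rfl⟩, ((Nat.coprime_primes hr hs).2 hrs).mul_dvd_of_dvd_of_dvd hrd hsd⟩
  obtain ⟨K, ⟨hKn, x₀, y₀, hxy⟩, hmax⟩ := (wellFounded_gt (α := Subgroup G)).has_min
    {K : Subgroup G | K.Normal ∧ ∃ x y, x * y * x⁻¹ * y⁻¹ ∉ K}
    (by
      obtain ⟨x, y, h⟩ := hna
      refine ⟨⊥, Subgroup.normal_bot, x, y, fun h' => h ?_⟩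
      rw [mem_bot, mul_inv_eq_one, mul_inv_eq_iff_eq_mul] at h'
      exact h')
  haveI := hKn
  have hbig : ∀ F : Subgroup G, F.Normal → K ≤ F → F ≠ K → ∀ x y, x * y * x⁻¹ * y⁻¹ ∈ F := by
    intro F hF hKF hne
    by_contra h
    push Not at h
    exact hmax F ⟨hF, h⟩ (lt_of_le_of_ne hKF (Ne.symm hne))
  set π := QuotientGroup.mk' K with hπ
  have hπs : Function.Surjective π := QuotientGroup.mk'_surjective K
  have hπc : ∀ x y : G, π (x * y * x⁻¹ * y⁻¹) = π x * π y * (π x)⁻¹ * (π y)⁻¹ := fun x y => by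
    simp only [map_mul, map_inv]
  have hbig' : ∀ F : Subgroup (G ⧸ K), F.Normal → F ≠ ⊥ → ∀ x y, x * y * x⁻¹ * y⁻¹ ∈ F := by
    intro F hF hne a b
    obtain ⟨x, rfl⟩ := hπs a
    obtain ⟨y, rfl⟩ := hπs b
    rw [← hπc]
    refine hbig (F.comap π) (hF.comap π) (fun k hk => ?_) (fun e => hne ?_) x y
    · rw [mem_comap, hπ, QuotientGroup.mk'_apply, (QuotientGroup.eq_one_iff k).2 hk]; exact F.one_mem
    · rw [← map_comap_eq_self_of_surjective hπs F, e, Subgroup.map_eq_bot_iff, hπ, QuotientGroup.ker_mk']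
  set D := commutator (G ⧸ K) with hD
  have hDne : D ≠ ⊥ := fun h => hxy ((QuotientGroup.eq_one_iff _).1 (by
    show π _ = 1
    rw [hπc, ← mem_bot, ← h, hD, commutator_def]
    exact commutator_mem_commutator (mem_top _) (mem_top _)))
  have hDmin : ∀ F : Subgroup (G ⧸ K), F.Normal → F ≤ D → F = ⊥ ∨ F = D := fun F hF hFD => by
    by_cases hF0 : F = ⊥
    · exact Or.inl hF0
    · refine Or.inr (le_antisymm hFD ?_)
      rw [hD, _root_.commutator_def, commutator_le]
      exact fun a _ b _ => hbig' F hF hF0 a b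
  haveI : Group.IsSolvable (G ⧸ K) := Group.isSolvable_of_surjective hπs
  have hDab : ∀ a ∈ D, ∀ b ∈ D, a * b = b * a := by
    have hlt := Group.IsSolvable.commutator_lt_of_ne_bot hDne
    rcases hDmin ⁅D, D⁆ inferInstance (commutator_le_self D) with h | h
    · intro a ha b hb
      exact commutatorElement_eq_one_iff_mul_comm.1 (mem_bot.1 (h ▸ commutator_mem_commutator ha hb))
    · exact absurd h hlt.ne
  by_cases hZ : center (G ⧸ K) = ⊥
  · -- a Frobenius group
    have hfp := fpf_of_center_eq_bot D hDab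
      (fun a b => commutator_mem_commutator (mem_top _) (mem_top _)) hZ hDmin
    obtain ⟨q, hq, hexp⟩ := exists_exponent D hDab hDne hDmin
    haveI := Fact.mk hq
    set M : Subgroup G := D.comap π with hMdef
    haveI : M.Normal := (inferInstance : D.Normal).comap π
    haveI := Fintype.ofFinite M
    have hKM : K ≤ M := fun k hk => by
      rw [hMdef, mem_comap, hπ, QuotientGroup.mk'_apply, (QuotientGroup.eq_one_iff k).2 hk]; exact one_mem _
    have hker : ∀ {g : G}, π g = 1 → g ∈ K := fun {g} h => (QuotientGroup.eq_one_iff g).1 h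
    have hne : ¬ M ≤ K := fun h => hDne (by
      rw [← map_comap_eq_self_of_surjective hπs D, Subgroup.map_eq_bot_iff, hπ, QuotientGroup.ker_mk']
      exact h)
    have hMtop : M ≠ ⊤ := fun h => by
      refine hxy ((QuotientGroup.eq_one_iff _).1 ?_)
      show π _ = 1
      have hx : π x₀ ∈ D := (h ▸ mem_top x₀ : x₀ ∈ M)
      have hy : π y₀ ∈ D := (h ▸ mem_top y₀ : y₀ ∈ M)
      rw [hπc, hDab _ hx _ hy]
      group
    obtain ⟨s, hs, hsd⟩ := Nat.exists_prime_and_dvd (fun h : M.index = 1 => hMtop (index_eq_one.1 h))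
    refine ⟨s, q, fun r ⟨hr, d, ⟨χ, hχ⟩, hrd⟩ => ?_⟩
    subst hχ
    obtain ⟨ψ, hψ⟩ := CfsgLib.Blocks.exists_constituent M χ
    obtain ⟨h1, h2⟩ := Cfsg.Agent.S0887.result M (χ : G → ℂ) χ.2 (ψ : M → ℂ) ψ.2 hψ _ _
      (cast_irrDegree χ).symm (cast_irrDegree ψ).symm
    by_cases hqψ : q ∣ Cfsg.charDegree (ψ : M → ℂ)
    · exact Or.inr (hadj hr hq χ hrd (hqψ.trans h1))
    · refine Or.inl ?_
      obtain ⟨χ', hχ'⟩ := exists_induced_degree hKM (fun a ha => hker (by rw [map_pow]; exact hexp _ ha))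
        hne (fun a ha b hb => hker (by rw [hπc, hDab _ ha _ hb]; group))
        (fun x hx a ha h => hker (hfp (π x) hx (π a) ha (by
          have h' : π (x * a * x⁻¹ * a⁻¹) = 1 := (QuotientGroup.eq_one_iff _).2 h
          rw [hπc, mul_inv_eq_one, mul_inv_eq_iff_eq_mul] at h'
          exact h'))) ψ hqψ
      refine hadj hr hs χ' ?_ (hχ' ▸ hsd.mul_right _)
      rw [hχ']
      rw [← Nat.div_mul_cancel h1] at hrd
      exact (hr.dvd_mul.1 hrd).elim (fun h => (h.trans h2).mul_right _) fun h => h.mul_left _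
  · -- a `p`-group
    have hcen : ∀ a b : G ⧸ K, a * b * a⁻¹ * b⁻¹ ∈ center (G ⧸ K) := hbig' _ inferInstance hZ
    haveI hnil : Group.IsNilpotent (G ⧸ K) := by
      let ρ := QuotientGroup.mk' (center (G ⧸ K))
      letI : CommGroup ((G ⧸ K) ⧸ center (G ⧸ K)) :=
        { (inferInstance : Group ((G ⧸ K) ⧸ center (G ⧸ K))) with
          mul_comm := fun a b => QuotientGroup.induction_on a fun x => QuotientGroup.induction_on b fun y => by
            rw [← QuotientGroup.mk_mul, ← QuotientGroup.mk_mul, QuotientGroup.eq]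
            have h := hcen y⁻¹ x⁻¹
            simpa [mul_assoc] using h }
      exact Subgroup.isNilpotent_of_ker_le_center ρ (le_of_eq (QuotientGroup.ker_mk' _))
    set p := (Nat.card D).minFac with hpdef
    have hp : p.Prime := Nat.minFac_prime fun h => hDne (card_eq_one.1 h)
    haveI := Fact.mk hp
    have hidx : ∀ r : ℕ, r.Prime → r ∣ K.index → r = p := by
      intro r hr hd
      haveI := Fact.mk hr
      obtain ⟨R⟩ : Nonempty (Sylow r (G ⧸ K)) := inferInstance
      have hRn : (R : Subgroup (G ⧸ K)).Normal := inferInstance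
      have hR1 : (R : Subgroup (G ⧸ K)) ≠ ⊥ := R.ne_bot_of_dvd_card (by rwa [← index_eq_card])
      have hDR : D ≤ (R : Subgroup (G ⧸ K)) := by
        rw [hD, _root_.commutator_def, commutator_le]
        exact fun a _ b _ => hbig' _ hRn hR1 a b
      obtain ⟨j, hj⟩ := IsPGroup.iff_card.1 R.2
      have hpR : p ∣ Nat.card (R : Subgroup (G ⧸ K)) :=
        (Nat.minFac_dvd (Nat.card D)).trans (card_dvd_of_le hDR)
      rw [hj] at hpR
      exact ((Nat.prime_dvd_prime_iff_eq hp hr).1 (hp.dvd_of_dvd_pow hpR)).symm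
    haveI := Fintype.ofFinite (G ⧸ K)
    obtain ⟨β, hβ⟩ : ∃ β : Cfsg.IrrCharacter (G ⧸ K), Cfsg.charDegree (β : G ⧸ K → ℂ) ≠ 1 := by
      by_contra! h
      refine hxy ((QuotientGroup.eq_one_iff _).1 ?_)
      show π _ = 1
      rw [hπc, comm_of_forall_linear h (π x₀) (π y₀)]
      group
    have hpβ : p ∣ Cfsg.charDegree (β : G ⧸ K → ℂ) := by
      obtain ⟨r, hr, hrd⟩ := Nat.exists_prime_and_dvd hβ
      have := hidx r hr (by rw [index_eq_card]; exact hrd.trans (charDegree_dvd_card β))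
      rwa [← this]
    refine ⟨p, p, fun r ⟨hr, d, ⟨χ, hχ⟩, hrd⟩ => Or.inl ?_⟩
    subst hχ
    by_cases hpχ : p ∣ Cfsg.charDegree (χ : G → ℂ)
    · exact hadj hr hp χ hrd hpχ
    · haveI := Fintype.ofFinite K
      have hcop : (Cfsg.charDegree (χ : G → ℂ)).Coprime K.index :=
        Nat.coprime_of_dvd fun r hr h1 h2 => hpχ (hidx r hr h2 ▸ h1)
      have hirr := Gallagher.isIrr_twistBy (IsIrr.isCharacter χ.2)
        (CharExt.isIrr_restrict_of_coprime χ hcop) β
      have hd : Cfsg.charDegree (Gallagher.twistBy (χ : G → ℂ) (β : G ⧸ K → ℂ)) =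
          Cfsg.charDegree (β : G ⧸ K → ℂ) * Cfsg.charDegree (χ : G → ℂ) := by
        refine charDegree_eq_of_apply_one ?_
        rw [Gallagher.twistBy_apply, map_one, Nat.cast_mul, cast_irrDegree, cast_irrDegree]
      refine hadj hr hp ⟨_, hirr⟩ ?_ ?_
      · rw [hd]; exact hrd.mul_left _
      · rw [hd]; exact hpβ.mul_right _

end CfsgLib.DegreeGraph
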